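import Groth.Agent.L15.FEtFields.Ext
import Mathlib.RingTheory.Etale.Field
import Mathlib.RingTheory.TensorProduct.Pi

/-!
Finite étale algebras along a field extension in which separable extensions stay fields.
-/

set_option autoImplicit false
set_option linter.style.haveILetI false
universe u

open TensorProduct

namespace Groth.L15.FEtFields

variable {K Kh : Type u} [Field K] [Field Kh] [Algebra K Kh]

theorem exists_pi (B : Type u) [CommRing B] [Algebra K B] [Module.Finite K B] [Algebra.Etale K B] :
    ∃ (I : Type u) (_ : Finite I) (F : I → Type u) (_ : ∀ i, Field (F i)) (_ : ∀ i, Algebra K (F i))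
      (_ : B ≃ₐ[K] Π i, F i), ∀ i, Module.Finite K (F i) ∧ Algebra.IsSeparable K (F i) := by
  obtain ⟨I, hI, F, hF, hA, e, hs⟩ := (Algebra.Etale.iff_exists_algEquiv_prod K B).1 inferInstance
  exact ⟨I, hI, F, hF, hA, e, hs⟩

variable (hfield : ∀ (F : Type u) [Field F] [Algebra K F] [FiniteDimensional K F] [Algebra.IsSeparable K F],
  IsField (Kh ⊗[K] F))

include hfield

/-- A finite étale subalgebra is linearly disjoint from the large field. -/
theorem injective_lift {T : Type u} [CommRing T] [Algebra K T] [Module.Finite K T] [Algebra.Etale K T]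
    {M : Type u} [CommRing M] [Algebra K M] [Algebra Kh M] [IsScalarTower K Kh M] (j : T →ₐ[K] M)
    (hj : Function.Injective j) :
    Function.Injective (Algebra.TensorProduct.lift (Algebra.ofId Kh M) j (fun _ _ => Commute.all _ _)) := by
  classical
  obtain ⟨I, _, F, _, _, e, hF⟩ := exists_pi (K := K) T
  haveI := Fintype.ofFinite I
  let Φ : Kh ⊗[K] T ≃ₐ[Kh] Π i, Kh ⊗[K] F i :=
    (Algebra.TensorProduct.congr AlgEquiv.refl e).trans (Algebra.TensorProduct.piRight K Kh Kh F)
  set μ := Algebra.TensorProduct.lift (Algebra.ofId Kh M) j (fun _ _ => Commute.all _ _)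
  refine (injective_iff_map_eq_zero μ).2 fun z hz => ?_
  by_contra hne
  obtain ⟨i, hi⟩ : ∃ i, Φ z i ≠ 0 := by
    by_contra hall
    exact hne (Φ.injective (by rw [map_zero]; funext i; exact not_not.1 (not_exists.1 hall i)))
  haveI := (hF i).1
  haveI := (hF i).2
  obtain ⟨w, hw⟩ := (hfield (F i)).mul_inv_cancel hi
  let d : T := e.symm (Pi.single i 1)
  have h1 : z * Φ.symm (Pi.single i w) = 1 ⊗ₜ[K] d := by
    apply Φ.injective
    rw [map_mul, AlgEquiv.apply_symm_apply]
    funext k
    rw [Pi.mul_apply, show Φ (1 ⊗ₜ[K] d) k = (1 : Kh) ⊗ₜ[K] e (e.symm (Pi.single i 1)) k from rfl,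
      AlgEquiv.apply_symm_apply]
    by_cases hk : k = i
    · subst hk; rw [Pi.single_eq_same, Pi.single_eq_same]; exact hw
    · rw [Pi.single_eq_of_ne hk, Pi.single_eq_of_ne hk, mul_zero, TensorProduct.tmul_zero]
  have h2 : j d = 0 := by
    have := congrArg μ h1
    rw [map_mul, hz, zero_mul] at this
    simpa [μ] using this.symm
  have h3 := congrArg e ((injective_iff_map_eq_zero j).1 hj d h2)
  rw [AlgEquiv.apply_symm_apply, map_zero] at h3
  exact one_ne_zero (by simpa using congrFun h3 i : (1 : F i) = 0)

/-- Maps between finite étale algebras over the large field are defined over the small one. -/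
theorem existsUnique_algHom (B B' : Type u) [CommRing B] [Algebra K B] [Module.Finite K B]
    [Algebra.Etale K B] [CommRing B'] [Algebra K B'] [Module.Finite K B'] [Algebra.Etale K B']
    (ψ : B' →ₐ[K] Kh ⊗[K] B) :
    ∃! φ : B' →ₐ[K] B, Algebra.TensorProduct.includeRight.comp φ = ψ := by
  let ι : B →ₐ[K] Kh ⊗[K] B := Algebra.TensorProduct.includeRight
  have hι : Function.Injective ι :=
    Algebra.TensorProduct.includeRight_injective (algebraMap K Kh).injective
  let P := Algebra.TensorProduct.productMap ι ψ
  let T : Subalgebra K (Kh ⊗[K] B) := P.range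
  haveI : Module.Finite K T := Module.Finite.of_surjective P.rangeRestrict.toLinearMap P.rangeRestrict_surjective
  haveI : Algebra.Etale K (B ⊗[K] B') := Algebra.Etale.comp K B _
  haveI : Algebra.FormallyUnramified K T := Algebra.FormallyUnramified.of_surjective P.rangeRestrict P.rangeRestrict_surjective
  haveI : Algebra.Etale K T :=
    { formallyEtale := Algebra.FormallyEtale.of_formallyUnramified_of_field K T
      finitePresentation := Algebra.FinitePresentation.of_finiteType.1 inferInstance }
  have hinj := injective_lift (Kh := Kh) hfield T.val Subtype.val_injective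
  have hle : LinearMap.range ι.toLinearMap ≤ Subalgebra.toSubmodule T := by
    rintro _ ⟨b, rfl⟩
    exact ⟨b ⊗ₜ 1, by simp [P]⟩
  have heq : LinearMap.range ι.toLinearMap = Subalgebra.toSubmodule T := by
    refine Submodule.eq_of_le_of_finrank_le hle ?_
    calc Module.finrank K (Subalgebra.toSubmodule T) = Module.finrank Kh (Kh ⊗[K] T) :=
          (Module.finrank_baseChange (R := Kh) (S := K) (M' := T)).symm
      _ ≤ Module.finrank Kh (Kh ⊗[K] B) :=
          LinearMap.finrank_le_finrank_of_injective
            (f := (Algebra.TensorProduct.lift (Algebra.ofId Kh _) T.val (fun _ _ => Commute.all _ _)).toLinearMap) hinj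
      _ = Module.finrank K B := Module.finrank_baseChange (R := Kh) (S := K) (M' := B)
      _ = _ := (LinearMap.finrank_range_of_inj hι).symm
  have hmem : ∀ x, ψ x ∈ ι.range := fun x => by
    have : ψ x ∈ Subalgebra.toSubmodule T := ⟨1 ⊗ₜ x, by simp [P]⟩
    rw [← heq] at this
    exact this
  refine ⟨((AlgEquiv.ofInjective ι hι).symm.toAlgHom).comp (ψ.codRestrict ι.range hmem), ?_, fun φ hφ => ?_⟩
  · ext x
    exact congrArg Subtype.val ((AlgEquiv.ofInjective ι hι).apply_symm_apply ⟨ψ x, hmem x⟩)
  · ext x
    apply hι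
    refine (AlgHom.congr_fun hφ x).trans ?_
    exact (congrArg Subtype.val ((AlgEquiv.ofInjective ι hι).apply_symm_apply ⟨ψ x, hmem x⟩)).symm

omit hfield

/-- Finite étale algebras descend as soon as finite separable extensions do. -/
theorem exists_algebra_descent
    (hdesc : ∀ (L : Type u) [Field L] [Algebra Kh L] [FiniteDimensional Kh L] [Algebra.IsSeparable Kh L],
      ∃ (F : Type u) (_ : Field F) (_ : Algebra K F) (_ : FiniteDimensional K F)
        (_ : Algebra.IsSeparable K F), Nonempty (Kh ⊗[K] F ≃ₐ[Kh] L))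
    (C : Type u) [CommRing C] [Algebra Kh C] [Module.Finite Kh C] [Algebra.Etale Kh C] :
    ∃ (B : Type u) (_ : CommRing B) (_ : Algebra K B) (_ : Module.Finite K B) (_ : Algebra.Etale K B),
      Nonempty (Kh ⊗[K] B ≃ₐ[Kh] C) := by
  classical
  obtain ⟨I, _, L, _, _, e, hL⟩ := exists_pi (K := Kh) C
  haveI := Fintype.ofFinite I
  have h := fun i => (haveI := (hL i).1; haveI := (hL i).2; hdesc (L i))
  choose F h1 h2 h3 h4 h5 using h
  haveI : Algebra.Etale K (Π i, F i) :=
    (Algebra.Etale.iff_exists_algEquiv_prod K _).2 ⟨I, inferInstance, F, h1, h2, AlgEquiv.refl, fun i => ⟨h3 i, h4 i⟩⟩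
  exact ⟨Π i, F i, inferInstance, inferInstance, inferInstance, inferInstance,
    ⟨(Algebra.TensorProduct.piRight K Kh Kh F).trans ((AlgEquiv.piCongrRight fun i => (h5 i).some).trans e.symm)⟩⟩

end Groth.L15.FEtFields
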