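import Groth.Agent.L27.HenselPair
import Mathlib.RingTheory.Etale.Field

/-!
Restriction of finite étale covers along an affine morphism, in terms of algebras.
-/

set_option autoImplicit false
set_option linter.style.haveILetI false
set_option backward.isDefEq.respectTransparency.types false

universe u

open CategoryTheory CategoryTheory.Limits AlgebraicGeometry TensorProduct

noncomputable section

namespace Groth.L15.FEtFields

open Groth.L27.HenselPair (exists_algebra)

variable {A A' : Type u} [CommRing A] [CommRing A'] [Algebra A A']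

/-- The base change of an affine scheme. -/
theorem exists_tensorIso (B : Type u) [CommRing B] [Algebra A B] :
    ∃ θ : Spec (CommRingCat.of (A' ⊗[A] B)) ≅
        pullback (Spec.map (CommRingCat.ofHom (algebraMap A B)))
          (Spec.map (CommRingCat.ofHom (algebraMap A A'))),
      θ.hom ≫ pullback.fst _ _ =
        Spec.map (CommRingCat.ofHom (Algebra.TensorProduct.includeRight (R := A) (A := A') (B := B)).toRingHom) ∧
      θ.hom ≫ pullback.snd _ _ = Spec.map (CommRingCat.ofHom (algebraMap A' (A' ⊗[A] B))) := by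
  refine ⟨(pullbackSymmetry _ _ ≪≫ pullbackSpecIso A A' B).symm, ?_, ?_⟩
  · show ((pullbackSpecIso A A' B).inv ≫ (pullbackSymmetry _ _).inv) ≫ pullback.fst _ _ = _
    rw [Category.assoc, pullbackSymmetry_inv_comp_fst]
    exact pullbackSpecIso_inv_snd A A' B
  · show ((pullbackSpecIso A A' B).inv ≫ (pullbackSymmetry _ _).inv) ≫ pullback.snd _ _ = _
    rw [Category.assoc, pullbackSymmetry_inv_comp_snd]
    exact pullbackSpecIso_inv_fst A A' B

/-- Morphisms to a cover lift uniquely from the closed subscheme. -/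
theorem existsUnique_lift (hff : ∀ (B B' : Type u) [CommRing B] [Algebra A B] [Module.Finite A B] [Algebra.Etale A B]
      [CommRing B'] [Algebra A B'] [Module.Finite A B'] [Algebra.Etale A B'] (ψ : B' →ₐ[A] A' ⊗[A] B),
      ∃! φ : B' →ₐ[A] B, Algebra.TensorProduct.includeRight.comp φ = ψ)
    (V W : FEt.Cat (Spec (CommRingCat.of A)))
    (c : pullback (V.hom : V.left ⟶ Spec (CommRingCat.of A)) (Spec.map (CommRingCat.ofHom (algebraMap A A'))) ⟶ W.left)
    (hc : c ≫ W.hom = pullback.fst V.hom (Spec.map (CommRingCat.ofHom (algebraMap A A'))) ≫ V.hom) :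
    ∃! a : V.left ⟶ W.left, a ≫ W.hom = V.hom ∧
      pullback.fst V.hom (Spec.map (CommRingCat.ofHom (algebraMap A A'))) ≫ a = c := by
  obtain ⟨B, _, _, _, _, e, he⟩ := exists_algebra V
  obtain ⟨B', _, _, _, _, e', he'⟩ := exists_algebra W
  let β := Spec.map (CommRingCat.ofHom (algebraMap A B))
  let β' := Spec.map (CommRingCat.ofHom (algebraMap A B'))
  let pV : V.left ⟶ Spec (CommRingCat.of A) := V.hom
  let pW : W.left ⟶ Spec (CommRingCat.of A) := W.hom
  let ι := Spec.map (CommRingCat.ofHom (algebraMap A A'))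
  obtain ⟨θ, hθ, -⟩ := exists_tensorIso (A := A) (A' := A') B
  let incl : B →ₐ[A] A' ⊗[A] B := Algebra.TensorProduct.includeRight
  let m : pullback β ι ⟶ pullback pV ι := pullback.map β ι pV ι e.inv (𝟙 _) (𝟙 _)
    (by rw [Category.comp_id]; exact (Iso.inv_comp_eq e).mpr he.symm |>.symm) (by simp)
  haveI : IsIso m := inferInstance
  let mk := Spec.map (CommRingCat.ofHom incl.toRingHom)
  have hm : θ.hom ≫ m ≫ pullback.fst pV ι = mk ≫ e.inv := by
    rw [show m ≫ pullback.fst pV ι = pullback.fst β ι ≫ e.inv from pullback.lift_fst _ _ _, ← Category.assoc]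
    exact congrArg (· ≫ e.inv) hθ
  have hev : e.inv ≫ pV = β := (Iso.inv_comp_eq e).mpr he.symm
  have hew : e'.inv ≫ pW = β' := (Iso.inv_comp_eq e').mpr he'.symm
  -- the map on rings
  obtain ⟨φ, hφ⟩ : ∃ φ : CommRingCat.of B' ⟶ CommRingCat.of (A' ⊗[A] B),
      Spec.map φ = θ.hom ≫ m ≫ c ≫ e'.hom := ⟨Spec.preimage _, Spec.map_preimage _⟩
  have hφA : CommRingCat.ofHom (algebraMap A B') ≫ φ =
      CommRingCat.ofHom (algebraMap A B) ≫ CommRingCat.ofHom incl.toRingHom := by
    apply Spec.map_injective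
    rw [Spec.map_comp, Spec.map_comp, hφ]
    simp only [Category.assoc]
    have h1 : e'.hom ≫ Spec.map (CommRingCat.ofHom (algebraMap A B')) = pW := he'
    rw [h1]
    calc θ.hom ≫ m ≫ c ≫ pW = θ.hom ≫ m ≫ pullback.fst pV ι ≫ pV := by
          exact congrArg (fun k => θ.hom ≫ m ≫ k) hc
      _ = (θ.hom ≫ m ≫ pullback.fst pV ι) ≫ pV := by simp only [Category.assoc]
      _ = mk ≫ β := by rw [hm, Category.assoc, hev]
  let σ : B' →ₐ[A] A' ⊗[A] B :=
    { φ.hom with commutes' := fun r => congrArg (fun f : CommRingCat.of A ⟶ CommRingCat.of (A' ⊗[A] B) => f.hom r) hφA |>.trans (incl.commutes r) }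
  obtain ⟨τ, hτ, huniq⟩ := hff B B' σ
  haveI : Epi (θ.hom ≫ m) := inferInstance
  refine ⟨e.hom ≫ Spec.map (CommRingCat.ofHom τ.toRingHom) ≫ e'.inv, ⟨?_, ?_⟩, ?_⟩
  · show (e.hom ≫ Spec.map _ ≫ e'.inv) ≫ pW = pV
    rw [Category.assoc, Category.assoc, hew, ← Spec.map_comp, ← CommRingCat.ofHom_comp,
      show τ.toRingHom.comp (algebraMap A B') = algebraMap A B from τ.comp_algebraMap]
    exact he
  · rw [← cancel_epi (θ.hom ≫ m)]
    have hmk : mk ≫ Spec.map (CommRingCat.ofHom τ.toRingHom) = Spec.map φ := by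
      rw [← Spec.map_comp]
      congr 1
      ext b
      exact AlgHom.congr_fun hτ b
    calc (θ.hom ≫ m) ≫ pullback.fst pV ι ≫ e.hom ≫ Spec.map (CommRingCat.ofHom τ.toRingHom) ≫ e'.inv
        = (θ.hom ≫ m ≫ pullback.fst pV ι) ≫ e.hom ≫ Spec.map (CommRingCat.ofHom τ.toRingHom) ≫ e'.inv := by
          simp only [Category.assoc]
      _ = Spec.map φ ≫ e'.inv := by
          rw [hm, Category.assoc, Iso.inv_hom_id_assoc, ← Category.assoc, hmk]
      _ = (θ.hom ≫ m) ≫ c := by
          rw [hφ]; simp only [Category.assoc, Iso.hom_inv_id, Category.comp_id]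
  · rintro a ⟨ha1, ha2⟩
    obtain ⟨ψ, hψ⟩ : ∃ ψ : CommRingCat.of B' ⟶ CommRingCat.of B, Spec.map ψ = e.inv ≫ a ≫ e'.hom :=
      ⟨Spec.preimage _, Spec.map_preimage _⟩
    have hψA : CommRingCat.ofHom (algebraMap A B') ≫ ψ = CommRingCat.ofHom (algebraMap A B) := by
      apply Spec.map_injective
      rw [Spec.map_comp, hψ, Category.assoc, Category.assoc]
      exact (congrArg (fun k => e.inv ≫ a ≫ k) he').trans
        ((congrArg (e.inv ≫ ·) ha1).trans hev)
    let τ' : B' →ₐ[A] B :=
      { ψ.hom with commutes' := fun r => congrArg (fun f : CommRingCat.of A ⟶ CommRingCat.of B => f.hom r) hψA }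
    have hτ' : τ' = τ := by
      refine huniq τ' (AlgHom.ext fun b => ?_)
      have h : ψ ≫ CommRingCat.ofHom incl.toRingHom = φ := by
        apply Spec.map_injective
        rw [Spec.map_comp, hψ, hφ]
        calc mk ≫ e.inv ≫ a ≫ e'.hom = (mk ≫ e.inv) ≫ a ≫ e'.hom := by simp only [Category.assoc]
          _ = θ.hom ≫ m ≫ (pullback.fst pV ι ≫ a) ≫ e'.hom := by rw [← hm]; simp only [Category.assoc]
          _ = θ.hom ≫ m ≫ c ≫ e'.hom := congrArg (fun k => θ.hom ≫ m ≫ k ≫ e'.hom) ha2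
      exact congrArg (fun f : CommRingCat.of B' ⟶ CommRingCat.of (A' ⊗[A] B) => f.hom b) h
    have : Spec.map ψ = Spec.map (CommRingCat.ofHom τ.toRingHom) := by
      congr 1
      ext b
      exact AlgHom.congr_fun hτ' b
    rw [← this, hψ]
    simp

theorem isEquivalence_restrict (hff : ∀ (B B' : Type u) [CommRing B] [Algebra A B] [Module.Finite A B] [Algebra.Etale A B]
      [CommRing B'] [Algebra A B'] [Module.Finite A B'] [Algebra.Etale A B'] (ψ : B' →ₐ[A] A' ⊗[A] B),
      ∃! φ : B' →ₐ[A] B, Algebra.TensorProduct.includeRight.comp φ = ψ)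
    (hes : ∀ (C : Type u) [CommRing C] [Algebra A' C] [Module.Finite A' C] [Algebra.Etale A' C],
      ∃ (B : Type u) (_ : CommRing B) (_ : Algebra A B) (_ : Module.Finite A B) (_ : Algebra.Etale A B),
        Nonempty (A' ⊗[A] B ≃ₐ[A'] C)) :
    (FEt.restrict (Spec.map (CommRingCat.ofHom (algebraMap A A')))).IsEquivalence := by
  let ι := Spec.map (CommRingCat.ofHom (algebraMap A A'))
  have hmap : ∀ {V W : FEt.Cat (Spec (CommRingCat.of A))} (φ : V ⟶ W),
      ((FEt.restrict ι).map φ).left ≫ pullback.fst W.hom ι = pullback.fst V.hom ι ≫ φ.left :=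
    fun φ => pullback.lift_fst _ _ _
  refine @Functor.IsEquivalence.mk _ _ _ _ _ ⟨fun {V W} a b h => ?_⟩ ⟨fun {V W} ψ => ?_⟩ ⟨fun Y => ?_⟩
  · obtain ⟨a0, -, huniq⟩ := existsUnique_lift hff V W (pullback.fst V.hom ι ≫ a.left)
      ((Category.assoc _ _ _).trans (congrArg (_ ≫ ·) (MorphismProperty.Over.w a)))
    exact MorphismProperty.Over.Hom.ext ((huniq a.left ⟨MorphismProperty.Over.w a, rfl⟩).trans
      (huniq b.left ⟨MorphismProperty.Over.w b, (hmap b).symm.trans
        ((congrArg (fun m => m.left ≫ pullback.fst W.hom ι) h).symm.trans (hmap a))⟩).symm)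
  · let c : pullback (V.hom : V.left ⟶ _) ι ⟶ pullback (W.hom : W.left ⟶ _) ι := ψ.left
    have hc : c ≫ pullback.snd W.hom ι = pullback.snd V.hom ι := MorphismProperty.Over.w ψ
    obtain ⟨a, ⟨ha1, ha2⟩, -⟩ := existsUnique_lift hff V W (c ≫ pullback.fst W.hom ι)
      ((Category.assoc _ _ _).trans ((congrArg (c ≫ ·) pullback.condition).trans
        ((Category.assoc _ _ _).symm.trans ((congrArg (· ≫ ι) hc).trans pullback.condition.symm))))
    let r : V ⟶ W := MorphismProperty.Over.homMk a ha1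
    refine ⟨r, MorphismProperty.Over.Hom.ext ?_⟩
    let r0 : pullback (V.hom : V.left ⟶ _) ι ⟶ pullback (W.hom : W.left ⟶ _) ι := ((FEt.restrict ι).map r).left
    have hr0 : r0 ≫ pullback.snd W.hom ι = pullback.snd V.hom ι := MorphismProperty.Over.w _
    show r0 = c
    exact pullback.hom_ext ((hmap r).trans ha2) (hr0.trans hc.symm)
  · obtain ⟨C, _, _, _, _, e, he⟩ := exists_algebra Y
    obtain ⟨B, _, _, hB1, hB2, ⟨E⟩⟩ := hes C
    let β := Spec.map (CommRingCat.ofHom (algebraMap A B))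
    haveI : IsFinite β := (IsFinite.SpecMap_iff _).mpr (RingHom.finite_algebraMap.mpr hB1)
    haveI : AlgebraicGeometry.Etale β := (HasRingHomProperty.Spec_iff (P := @AlgebraicGeometry.Etale)).mpr
      (RingHom.etale_algebraMap.mpr hB2)
    let V : FEt.Cat (Spec (CommRingCat.of A)) := MorphismProperty.Over.mk ⊤ β ⟨inferInstance, inferInstance⟩
    obtain ⟨θ, -, hθ⟩ := exists_tensorIso (A := A) (A' := A') B
    let j : pullback β ι ≅ Spec (CommRingCat.of C) := θ.symm ≪≫
      Scheme.Spec.mapIso E.symm.toRingEquiv.toCommRingCatIso.op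
    refine ⟨V, ⟨MorphismProperty.Over.isoMk (j ≪≫ e.symm) ?_⟩⟩
    show (j.hom ≫ e.inv) ≫ Y.hom = pullback.snd β ι
    rw [Category.assoc, (Iso.inv_comp_eq e).mpr he.symm, ← Iso.eq_inv_comp]
    have h2 : j.inv ≫ pullback.snd β ι =
        Spec.map (CommRingCat.ofHom E.toRingEquiv.toRingHom) ≫
          Spec.map (CommRingCat.ofHom (algebraMap A' (A' ⊗[A] B))) := by
      show (_ ≫ θ.hom) ≫ pullback.snd β ι = _
      rw [Category.assoc, hθ]
      rfl
    rw [h2, ← Spec.map_comp]
    congr 1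
    ext r
    exact (E.commutes r).symm

end Groth.L15.FEtFields
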