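import Groth.Agent.L15.FEtFields.Alg
import Groth.Agent.L15.FEtFields.Criterion
import Groth.Agent.L01.CompletionReg
import Groth.Agent.S0549
import Mathlib.RingTheory.AdicCompletion.LocalRing
import Mathlib.RingTheory.AdicCompletion.Noetherian

/-!
A henselian discretely valued field and its completion have the same finite étale covers.
-/

set_option autoImplicit false
set_option linter.style.haveILetI false
universe u

open IsLocalRing CategoryTheory AlgebraicGeometry

namespace Groth.L15.FEtFields

variable (R : Type u) [CommRing R] [IsDomain R] [IsDiscreteValuationRing R]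

theorem exists_completion_isDense :
    ∃ (_ : IsDomain (AdicCompletion (maximalIdeal R) R))
      (_ : IsDiscreteValuationRing (AdicCompletion (maximalIdeal R) R))
      (_ : HenselianLocalRing (AdicCompletion (maximalIdeal R) R))
      (ϖ : R), IsDense R (AdicCompletion (maximalIdeal R) R) ϖ := by
  obtain ⟨_, _⟩ := (Groth.Agent.S0549.result R).1 ⟨inferInstance, inferInstance⟩
  haveI : HenselianLocalRing (AdicCompletion (maximalIdeal R) R) :=
    { is_henselian := fun f hf a₀ h₁ h₂ =>
        HenselianRing.is_henselian (I := maximalIdeal (AdicCompletion (maximalIdeal R) R)) f hf a₀ h₁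
          (h₂.map _) }
  obtain ⟨ϖ, hϖ⟩ := IsDiscreteValuationRing.exists_irreducible R
  refine ⟨inferInstance, inferInstance, inferInstance, ϖ, hϖ, ?_, fun n s => ?_, ?_⟩
  · rw [IsDiscreteValuationRing.irreducible_iff_uniformizer, AdicCompletion.maximalIdeal_eq_map,
      hϖ.maximalIdeal_eq, Ideal.map_span, Set.image_singleton]
  · obtain ⟨r, hr⟩ := Ideal.Quotient.mk_surjective (AdicCompletion.evalₐ (maximalIdeal R) n s)
    refine ⟨r, ?_⟩
    refine Ideal.mem_span_singleton.1 ?_
    have h1 : s - algebraMap R (AdicCompletion (maximalIdeal R) R) r ∈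
        (maximalIdeal R ^ n) • (⊤ : Submodule R (AdicCompletion (maximalIdeal R) R)) := by
      rw [AdicCompletion.pow_smul_top_eq_ker_eval (maximalIdeal R).fg_of_isNoetherianRing, LinearMap.mem_ker]
      have h2 : AdicCompletion.evalₐ (maximalIdeal R) n (s - algebraMap R _ r) = 0 := by
        rw [map_sub, AlgHom.commutes, ← hr]
        exact sub_self _
      have h3 := AdicCompletion.factor_evalₐ_eq_eval (I := maximalIdeal R)
        (s - algebraMap R (AdicCompletion (maximalIdeal R) R) r) (n := n) (by rw [smul_eq_mul, Ideal.mul_top])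
      rw [h2, map_zero] at h3
      exact h3.symm
    rw [Ideal.smul_top_eq_map, Submodule.restrictScalars_mem, Ideal.map_pow] at h1
    refine (le_of_eq ?_ : Ideal.map _ (maximalIdeal R) ^ n ≤ _) h1
    rw [show Ideal.map (algebraMap R (AdicCompletion (maximalIdeal R) R)) (maximalIdeal R) =
      Ideal.map (algebraMap R (AdicCompletion (maximalIdeal R) R)) (Ideal.span {ϖ}) from
        congrArg _ hϖ.maximalIdeal_eq, Ideal.map_span, Set.image_singleton, Ideal.span_singleton_pow]
  · exact AdicCompletion.of_injective (maximalIdeal R) R

variable [HenselianLocalRing R] (K Khat : Type u) [Field K] [Algebra R K] [IsFractionRing R K]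
    [Field Khat] [Algebra (AdicCompletion (maximalIdeal R) R) Khat]
    [IsFractionRing (AdicCompletion (maximalIdeal R) R) Khat]
    [Algebra R Khat] [IsScalarTower R (AdicCompletion (maximalIdeal R) R) Khat]
    [Algebra K Khat] [IsScalarTower R K Khat]

include R in
theorem isEquivalence_restrict_completion :
    (FEt.restrict (Spec.map (CommRingCat.ofHom (algebraMap K Khat)))).IsEquivalence := by
  obtain ⟨_, _, _, ϖ, h⟩ := exists_completion_isDense R
  refine isEquivalence_restrict (fun B B' _ _ _ _ _ _ _ _ ψ => ?_) (fun C _ _ _ _ => ?_)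
  · exact existsUnique_algHom (fun F _ _ _ _ => h.isField_tensor F) B B' ψ
  · exact exists_algebra_descent (fun L _ _ _ _ => h.exists_descent L) C

end Groth.L15.FEtFields
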