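import Groth.Agent.L15.FEtFields.Sep
import Mathlib.RingTheory.AdjoinRoot
import Mathlib.Algebra.Polynomial.Eval.Irreducible
import Mathlib.RingTheory.TensorProduct.Finite
import Mathlib.RingTheory.TensorProduct.Nontrivial

/-!
Finite separable extensions over two henselian discretely valued fields, one dense in the other.
-/

set_option autoImplicit false
set_option linter.style.haveILetI false
universe u

open Polynomial IsLocalRing TensorProduct

namespace Groth.L15.FEtFields

variable {R S : Type u} [CommRing R] [IsDomain R] [IsDiscreteValuationRing R] [HenselianLocalRing R]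
  [CommRing S] [IsDomain S] [IsDiscreteValuationRing S] [Algebra R S] {ϖ : R}
  {K Kh : Type u} [Field K] [Algebra R K] [IsFractionRing R K] [Field Kh] [Algebra S Kh]
  [IsFractionRing S Kh] [Algebra R Kh] [IsScalarTower R S Kh] [Algebra K Kh] [IsScalarTower R K Kh]

/-- The base change of a finite separable extension is a field. -/
theorem IsDense.isField_tensor (h : IsDense R S ϖ) (F : Type u) [Field F] [Algebra K F]
    [FiniteDimensional K F] [Algebra.IsSeparable K F] : IsField (Kh ⊗[K] F) := by
  obtain ⟨θ, hθ⟩ := Field.exists_primitive_element K F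
  let p := minpoly K θ
  haveI : Fact (Irreducible (p.map (algebraMap K Kh))) :=
    ⟨h.irreducible_map (minpoly.monic (Algebra.IsIntegral.isIntegral θ)) (minpoly.irreducible (Algebra.IsIntegral.isIntegral θ))
      (Algebra.IsSeparable.isSeparable K θ)⟩
  have h0 : (p.map (algebraMap K Kh)).eval₂ (algebraMap Kh (Kh ⊗[K] F)) (1 ⊗ₜ θ) = 0 := by
    rw [eval₂_map, ← IsScalarTower.algebraMap_eq, ← aeval_def,
      ← Algebra.TensorProduct.includeRight_apply (R := K) (A := Kh), aeval_algHom_apply, minpoly.aeval, map_zero]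
  let Φ := AdjoinRoot.lift (algebraMap Kh (Kh ⊗[K] F)) (1 ⊗ₜ θ) h0
  haveI : Nontrivial (Kh ⊗[K] F) :=
    Algebra.TensorProduct.nontrivial_of_algebraMap_injective_of_flat_left K Kh F (algebraMap K F).injective
  have hΦ : Function.Surjective Φ := by
    intro z
    induction z using TensorProduct.induction_on with
    | zero => exact ⟨0, map_zero _⟩
    | tmul a x =>
      obtain ⟨q, rfl⟩ : ∃ q : K[X], aeval θ q = x := by
        have hx' : x ∈ Algebra.adjoin K {θ} := by
          have := IntermediateField.adjoin_simple_toSubalgebra_of_isAlgebraic (F := K)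
            (Algebra.IsIntegral.isIntegral θ).isAlgebraic
          rw [← this, hθ]
          trivial
        rwa [Algebra.adjoin_singleton_eq_range_aeval] at hx'
      refine ⟨AdjoinRoot.of _ a * (q.map (algebraMap K Kh)).eval₂ (AdjoinRoot.of _) (AdjoinRoot.root _), ?_⟩
      rw [map_mul, AdjoinRoot.lift_of, hom_eval₂, AdjoinRoot.lift_root, AdjoinRoot.lift_comp_of, eval₂_map,
        ← IsScalarTower.algebraMap_eq, ← aeval_def,
        ← Algebra.TensorProduct.includeRight_apply (R := K) (A := Kh) θ, aeval_algHom_apply,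
        Algebra.TensorProduct.algebraMap_apply, Algebra.TensorProduct.includeRight_apply,
        Algebra.TensorProduct.tmul_mul_tmul]
      simp
    | add x y hx hy =>
      obtain ⟨a, rfl⟩ := hx
      obtain ⟨b, rfl⟩ := hy
      exact ⟨a + b, map_add _ _ _⟩
  exact MulEquiv.isField (Field.toIsField _)
    (RingEquiv.ofBijective Φ ⟨RingHom.injective _, hΦ⟩).symm.toMulEquiv

omit [HenselianLocalRing R] in
/-- Every monic polynomial over `S` is approximated by monic ones over `R`. -/
theorem IsDense.approx_monic (h : IsDense R S ϖ) (g : S[X]) (hg : g.Monic) (N : ℕ) :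
    ∃ f : R[X], f.Monic ∧ f.natDegree = g.natDegree ∧
      ∃ q : S[X], f.map (algebraMap R S) = g + C (algebraMap R S ϖ ^ N) * q := by
  choose r hr using fun i => h.approx N (g.coeff i)
  let n := g.natDegree
  let f : R[X] := X ^ n + ∑ i ∈ Finset.range n, C (r i) * X ^ i
  have hlt : (∑ i ∈ Finset.range n, C (r i) * X ^ i).degree < (n : WithBot ℕ) :=
    (degree_sum_le (Finset.range n) fun i => C (r i) * X ^ i).trans_lt
      ((Finset.sup_lt_iff (WithBot.bot_lt_coe n)).2 fun i hi =>
        (degree_C_mul_X_pow_le i (r i)).trans_lt (WithBot.coe_lt_coe.2 (Finset.mem_range.1 hi)))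
  refine ⟨f, monic_X_pow_add hlt, natDegree_eq_of_degree_eq_some ?_, ?_⟩
  · rw [degree_add_eq_left_of_degree_lt (by rwa [degree_X_pow]), degree_X_pow]
  · choose c hc using hr
    refine ⟨-∑ i ∈ Finset.range n, C (c i) * X ^ i, ?_⟩
    conv_rhs => rw [hg.as_sum]
    simp only [f, Polynomial.map_add, Polynomial.map_pow, map_X, Polynomial.map_sum, Polynomial.map_mul, map_C,
      mul_neg, Finset.mul_sum, add_assoc, ← Finset.sum_neg_distrib]
    rw [Finset.sum_neg_distrib, ← sub_eq_add_neg]
    congr 1
    rw [eq_sub_iff_add_eq, eq_comm, ← sub_eq_iff_eq_add',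
      ← Finset.sum_sub_distrib]
    refine Finset.sum_congr rfl fun i _ => ?_
    rw [← mul_assoc, ← C_mul, ← sub_mul, ← C_sub, ← hc i]

/-- Every finite separable extension of the large field is the base change of one of the small field. -/
theorem IsDense.exists_descent [HenselianLocalRing S] (h : IsDense R S ϖ) (L : Type u) [Field L]
    [Algebra Kh L] [FiniteDimensional Kh L] [Algebra.IsSeparable Kh L] :
    ∃ (F : Type u) (_ : Field F) (_ : Algebra K F) (_ : FiniteDimensional K F)
      (_ : Algebra.IsSeparable K F), Nonempty (Kh ⊗[K] F ≃ₐ[Kh] L) := by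
  letI := ((algebraMap Kh L).comp (algebraMap S Kh)).toAlgebra
  haveI : IsScalarTower S Kh L := IsScalarTower.of_algebraMap_eq fun _ => rfl
  letI := ((algebraMap Kh L).comp (algebraMap K Kh)).toAlgebra
  haveI : IsScalarTower K Kh L := IsScalarTower.of_algebraMap_eq fun _ => rfl
  obtain ⟨θ, hθ⟩ := Field.exists_primitive_element Kh L
  obtain ⟨⟨t, ht⟩, hint⟩ := (Algebra.IsIntegral.isIntegral (R := Kh) θ).exists_multiple_integral_of_isLocalization
    (nonZeroDivisors S) θ
  set α := (⟨t, ht⟩ : nonZeroDivisors S) • θ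
  have hinjL : Function.Injective (algebraMap S L) :=
    (algebraMap Kh L).injective.comp (IsFractionRing.injective S Kh)
  let g := minpoly S α
  have hgK : minpoly Kh α = g.map (algebraMap S Kh) := minpoly.isIntegrallyClosed_eq_field_fractions' Kh hint
  have hgm : g.Monic := minpoly.monic hint
  let A := Algebra.adjoin S {α}
  haveI : Module.Finite S A := ⟨(Submodule.fg_top _).2 hint.fg_adjoin_singleton⟩
  let a : A := ⟨α, Algebra.subset_adjoin rfl⟩
  let p : A := algebraMap S A (algebraMap R S ϖ)
  let J : Ideal A := Ideal.span {p}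
  haveI : HenselianRing A J := by
    have h1 : J = (maximalIdeal S).map (algebraMap S A) := by
      rw [h.irred'.maximalIdeal_eq, Ideal.map_span, Set.image_singleton]
    rw [h1]
    exact Groth.L05.henselianRing_map_of_isIntegral (maximalIdeal S) A
  have hd : aeval a g.derivative ≠ 0 := fun h0 => by
    refine (Algebra.IsSeparable.isSeparable Kh α).aeval_derivative_ne_zero (minpoly.aeval Kh α) ?_
    rw [hgK, derivative_map, aeval_map_algebraMap]
    have h1 := congrArg A.val h0
    rwa [map_zero, ← aeval_algHom_apply] at h1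
  obtain ⟨e, d', hd'⟩ : ∃ (e : ℕ) (d' : A), p ^ e = aeval a g.derivative * d' := by
    obtain ⟨s, hs, hs0⟩ := Submodule.exists_mem_ne_zero_of_ne_bot
      (Ideal.comap_ne_bot_of_integral_mem (R := S) hd
        (Ideal.mem_span_singleton_self (aeval a g.derivative)) (Algebra.IsIntegral.isIntegral _))
    obtain ⟨e, v, rfl⟩ := IsDiscreteValuationRing.eq_unit_mul_pow_irreducible hs0 h.irred'
    obtain ⟨k, hk⟩ := Ideal.mem_span_singleton.1 (Ideal.mem_comap.1 hs)
    refine ⟨e, k * algebraMap S A ↑(v⁻¹), ?_⟩
    rw [← mul_assoc, ← hk, map_mul, map_pow, mul_right_comm, ← map_mul, Units.mul_inv, map_one, one_mul]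
  obtain ⟨f, hfm, hfd, q, hq⟩ := h.approx_monic g hgm (2 * e + 1)
  have hev : ∀ k : R[X], (k.map (algebraMap R S)).map (algebraMap S A) = k.map ((algebraMap S A).comp (algebraMap R S)) :=
    fun k => Polynomial.map_map _ _ _
  let fA := (f.map (algebraMap R S)).map (algebraMap S A)
  have hf0 : fA.eval a = p ^ (2 * e + 1) * aeval a q := by
    rw [eval_map_algebraMap, hq, map_add, map_mul, aeval_C, map_pow]
    have : aeval a g = 0 := Subtype.val_injective (by
      show A.val (aeval a g) = A.val 0
      rw [← aeval_algHom_apply, map_zero]; exact minpoly.aeval S α)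
    rw [this, zero_add]
  have hf1 : fA.derivative.eval a = aeval a g.derivative * (1 + p * (p ^ e * d' * aeval a q.derivative)) := by
    rw [derivative_map, eval_map_algebraMap, hq, derivative_add, derivative_C_mul, map_add, map_mul, aeval_C,
      map_pow, show 2 * e + 1 = (e + e) + 1 by omega, pow_succ, pow_add]
    change _ + p ^ e * p ^ e * p * _ = _
    rw [hd']
    ring
  have hu : IsUnit (1 + p * (p ^ e * d' * aeval a q.derivative)) :=
    Ideal.isUnit_of_sub_one_mem_jacobson_bot _ (by
      rw [add_sub_cancel_left]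
      exact HenselianRing.jac (I := J) (J.mul_mem_right _ (Ideal.mem_span_singleton_self p)))
  obtain ⟨w, hw⟩ := hu
  rw [← hw] at hf1
  obtain ⟨y, hy, hroot⟩ := exists_root_near J fA a
    (c := p * (d' ^ 2 * aeval a q * ↑(w⁻¹ ^ 2))) (J.mul_mem_right _ (Ideal.mem_span_singleton_self p)) (by
      rw [hf0, hf1, pow_succ, mul_comm 2 e, pow_mul, hd']
      calc (aeval a g.derivative * d') ^ 2 * p * aeval a q
          = (aeval a g.derivative * d') ^ 2 * p * aeval a q * ((w : A) ^ 2 * ↑(w⁻¹ ^ 2)) := by
            rw [← Units.val_pow_eq_pow_val, ← Units.val_mul, ← mul_pow, mul_inv_cancel, one_pow,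
              Units.val_one, mul_one]
        _ = _ := by ring)
  set b := a + fA.derivative.eval a * y
  let B : Subalgebra S A := Algebra.adjoin S {b}
  have hBtop : B = ⊤ := by
    rw [← Algebra.toSubmodule_eq_top]
    refine top_le_iff.1 (Submodule.le_of_le_smul_of_le_jacobson_bot Module.Finite.fg_top
      (IsLocalRing.maximalIdeal_le_jacobson (⊥ : Ideal S)) ?_)
    intro x _
    obtain ⟨k, hk⟩ : ∃ k : S[X], aeval a k = x := by
      obtain ⟨k, hk⟩ := (Algebra.adjoin_singleton_eq_range_aeval S α).le x.2
      exact ⟨k, Subtype.val_injective (by rw [← A.coe_val, ← aeval_algHom_apply]; exact hk)⟩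
    obtain ⟨w, hw⟩ := sub_dvd_eval_sub a b (k.map (algebraMap S A))
    rw [eval_map_algebraMap, eval_map_algebraMap, hk, sub_eq_iff_eq_add'] at hw
    rw [hw]
    refine Submodule.add_mem_sup ((Algebra.adjoin_singleton_eq_range_aeval S b).ge ⟨k, rfl⟩) ?_
    obtain ⟨y', rfl⟩ := Ideal.mem_span_singleton.1 hy
    rw [show (a - b) * w = (algebraMap R S ϖ) • (-(fA.derivative.eval a * y' * w)) by
      rw [Algebra.smul_def]; simp only [b, p]; ring]
    exact Submodule.smul_mem_smul h.irred'.not_isUnit trivial
  let β : L := A.val b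
  have hβf : aeval β (f.map (algebraMap R S)) = 0 := by
    rw [aeval_algHom_apply]
    have : aeval b (f.map (algebraMap R S)) = 0 := by rw [← eval_map_algebraMap]; exact hroot
    rw [this, map_zero]
  have hgenβ : IntermediateField.adjoin Kh {β} = ⊤ := by
    refine eq_top_iff.2 (hθ ▸ IntermediateField.adjoin_simple_le_iff.2 ?_)
    have hα : α ∈ IntermediateField.adjoin Kh {β} := by
      obtain ⟨k, hk⟩ : ∃ k : S[X], aeval b k = a := by
        have : a ∈ B := hBtop ▸ trivial
        rwa [show B = _ from Algebra.adjoin_singleton_eq_range_aeval S b] at this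
      have h2 : aeval β (k.map (algebraMap S Kh)) = α := by
        rw [aeval_map_algebraMap, aeval_algHom_apply, hk]; rfl
      rw [← h2]
      exact IntermediateField.algebra_adjoin_le_adjoin Kh {β} (aeval_mem_adjoin_singleton Kh β)
    have ht0 : algebraMap S Kh t ≠ 0 := fun h0 => nonZeroDivisors.ne_zero ht
      (IsFractionRing.injective S Kh (h0.trans (map_zero _).symm))
    have : θ = (algebraMap S Kh t)⁻¹ • α := by
      show θ = _ • (t • θ)
      rw [← IsScalarTower.algebraMap_smul Kh t θ, inv_smul_smul₀ ht0]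
    rw [this]
    exact (IntermediateField.adjoin Kh {β}).smul_mem hα
  have hdeg : (minpoly Kh β).natDegree = f.natDegree := by
    rw [hfd, (Field.primitive_element_iff_minpoly_natDegree_eq Kh β).1 hgenβ,
      ← hgm.natDegree_map (algebraMap S Kh), ← hgK]
    refine ((Field.primitive_element_iff_minpoly_natDegree_eq Kh α).1 (eq_top_iff.2 (hθ ▸ ?_))).symm
    refine IntermediateField.adjoin_simple_le_iff.2 ?_
    have ht0 : algebraMap S Kh t ≠ 0 := fun h0 => nonZeroDivisors.ne_zero ht
      (IsFractionRing.injective S Kh (h0.trans (map_zero _).symm))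
    have : θ = (algebraMap S Kh t)⁻¹ • α := by
      show θ = _ • (t • θ)
      rw [← IsScalarTower.algebraMap_smul Kh t θ, inv_smul_smul₀ ht0]
    rw [this]
    exact (IntermediateField.adjoin Kh {α}).smul_mem (IntermediateField.mem_adjoin_simple_self Kh α)
  let fK := f.map (algebraMap R K)
  have hfKm : fK.Monic := hfm.map _
  have hcompat : fK.map (algebraMap K Kh) = (f.map (algebraMap R S)).map (algebraMap S Kh) := by
    rw [Polynomial.map_map, Polynomial.map_map, ← IsScalarTower.algebraMap_eq, ← IsScalarTower.algebraMap_eq]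
  have hmin : minpoly Kh β = fK.map (algebraMap K Kh) := by
    refine eq_of_monic_of_dvd_of_natDegree_le (minpoly.monic (Algebra.IsIntegral.isIntegral β)) (hfKm.map _)
      (minpoly.dvd _ _ (by rw [hcompat, aeval_map_algebraMap, hβf])) ?_ |>.symm
    rw [hfKm.natDegree_map, hfm.natDegree_map, hdeg]
  have hfirr : Irreducible fK :=
    Polynomial.Monic.irreducible_of_irreducible_map (algebraMap K Kh) fK hfKm (hmin ▸ minpoly.irreducible (Algebra.IsIntegral.isIntegral β))
  have hfsep : fK.Separable := (separable_map (algebraMap K Kh)).1 (hmin ▸ Algebra.IsSeparable.isSeparable Kh β)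
  haveI : Fact (Irreducible fK) := ⟨hfirr⟩
  haveI := (AdjoinRoot.powerBasis hfKm.ne_zero).finite
  haveI : Algebra.IsSeparable K (AdjoinRoot fK) := by
    have := IntermediateField.isSeparable_adjoin_simple_iff_isSeparable K (AdjoinRoot fK)
      (x := AdjoinRoot.root fK)
    have hs : IsSeparable K (AdjoinRoot.root fK) := by
      rw [IsSeparable, AdjoinRoot.minpoly_root hfKm.ne_zero, hfKm.leadingCoeff, inv_one, C_1, mul_one]
      exact hfsep
    have h2 := this.2 hs
    rw [IntermediateField.adjoin_eq_top_of_algebra K _ (AdjoinRoot.adjoinRoot_eq_top)] at h2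
    haveI := h2
    exact Algebra.IsSeparable.of_algHom K (⊤ : IntermediateField K (AdjoinRoot fK))
      (IntermediateField.topEquiv (F := K) (E := AdjoinRoot fK)).symm.toAlgHom
  refine ⟨AdjoinRoot fK, inferInstance, inferInstance, inferInstance, inferInstance, ?_⟩
  let ψ : AdjoinRoot fK →ₐ[K] L := AdjoinRoot.liftAlgHom fK (Algebra.ofId K L) β (by
    show aeval β fK = 0
    rw [← aeval_map_algebraMap Kh, ← hmin, minpoly.aeval])
  let Ψ : Kh ⊗[K] AdjoinRoot fK →ₐ[Kh] L :=
    Algebra.TensorProduct.lift (Algebra.ofId Kh L) ψ (fun _ _ => Commute.all _ _)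
  letI := (h.isField_tensor (K := K) (Kh := Kh) (AdjoinRoot fK)).toField
  refine ⟨AlgEquiv.ofBijective Ψ ⟨RingHom.injective Ψ.toRingHom, ?_⟩⟩
  rw [← AlgHom.range_eq_top, eq_top_iff]
  intro x _
  have hx : x ∈ Algebra.adjoin Kh {β} := by
    rw [← IntermediateField.adjoin_simple_toSubalgebra_of_isAlgebraic (Algebra.IsIntegral.isIntegral β).isAlgebraic, hgenβ]
    trivial
  refine Algebra.adjoin_le ?_ hx
  rw [Set.singleton_subset_iff]
  exact ⟨1 ⊗ₜ AdjoinRoot.root fK, by
    show Algebra.TensorProduct.lift _ _ _ _ = β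
    rw [Algebra.TensorProduct.lift_tmul, map_one, one_mul]
    exact AdjoinRoot.liftAlgHom_root _ _ _ _⟩

end Groth.L15.FEtFields
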