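import Mathlib.RingTheory.Henselian
import Mathlib.Algebra.Polynomial.Taylor
import Mathlib.Algebra.Polynomial.Inductions
import Mathlib.Tactic.LinearCombination

/-!
Newton's lemma in a henselian pair, for an arbitrary (not necessarily monic) polynomial.
-/

set_option autoImplicit false
universe u

open Polynomial

namespace Groth.L15.FEtFields

variable {A : Type u} [CommRing A]

/-- The polynomial `w ^ m * q (-c / w)`. -/
noncomputable def revPoly (q : A[X]) (c : A) : A[X] :=
  ∑ j ∈ Finset.range (q.natDegree + 1), C (q.coeff j * (-c) ^ j) * X ^ (q.natDegree - j)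

theorem degree_revPoly_le (q : A[X]) (c : A) : (revPoly q c).degree ≤ q.natDegree := by
  refine (degree_sum_le _ _).trans (Finset.sup_le fun j _ => ?_)
  exact (degree_C_mul_X_pow_le _ _).trans (WithBot.coe_le_coe.mpr (Nat.sub_le _ _))

theorem eval_revPoly (q : A[X]) (c : A) {w z : A} (h : w * z = 1) :
    (revPoly q c).eval w = w ^ q.natDegree * q.eval (-c * z) := by
  rw [eval_eq_sum_range (p := q) (-c * z), Finset.mul_sum, revPoly, eval_finsetSum]
  refine Finset.sum_congr rfl fun j hj => ?_
  have hj' : j ≤ q.natDegree := by simpa [Nat.lt_succ_iff] using hj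
  have h1 : w ^ j * z ^ j = 1 := by rw [← mul_pow, h, one_pow]
  rw [eval_mul, eval_C, eval_pow, eval_X]
  calc q.coeff j * (-c) ^ j * w ^ (q.natDegree - j)
      = q.coeff j * (-c) ^ j * w ^ (q.natDegree - j) * (w ^ j * z ^ j) := by rw [h1, mul_one]
    _ = (w ^ (q.natDegree - j) * w ^ j) * (q.coeff j * ((-c) ^ j * z ^ j)) := by ring
    _ = _ := by rw [← pow_add, Nat.sub_add_cancel hj', ← mul_pow]

/-- A small solution of `c + y + y ^ 2 * q y = 0`. -/
theorem exists_small_root (J : Ideal A) [HenselianRing A J] (q : A[X]) {c : A} (hc : c ∈ J) :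
    ∃ y ∈ J, c + y + y ^ 2 * q.eval y = 0 := by
  cases subsingleton_or_nontrivial A with
  | inl h => exact ⟨0, J.zero_mem, Subsingleton.elim _ _⟩
  | inr h => ?_
  let P : A[X] := X ^ (q.natDegree + 2) + (C c * revPoly q c - X ^ (q.natDegree + 1))
  have hP : P.Monic := by
    refine monic_X_pow_add ((degree_sub_le _ _).trans_lt (max_lt ?_ ?_))
    · refine ((degree_mul_le _ _).trans (add_le_add degree_C_le (degree_revPoly_le q c))).trans_lt ?_
      rw [zero_add]
      exact_mod_cast Nat.lt_add_of_pos_right (n := q.natDegree) two_pos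
    · rw [degree_X_pow]
      exact_mod_cast Nat.lt_succ_self _
  have h1 : P.eval 1 ∈ J := by
    simp only [P, eval_add, eval_sub, eval_pow, eval_X, one_pow, eval_mul, eval_C]
    rw [show (1 : A) + (c * (revPoly q c).eval 1 - 1) = c * (revPoly q c).eval 1 by ring]
    exact J.mul_mem_right _ hc
  have h2 : IsUnit (Ideal.Quotient.mk J (P.derivative.eval 1)) := by
    have h0 : P.derivative.eval 1 = 1 + c * (revPoly q c).derivative.eval 1 := by
      simp only [P, derivative_add, derivative_sub, derivative_X_pow, derivative_C_mul, eval_add,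
        eval_sub, eval_pow, eval_X, one_pow, eval_mul, eval_C, mul_one]
      push_cast
      ring
    rw [h0, map_add, map_one, Ideal.Quotient.eq_zero_iff_mem.mpr (J.mul_mem_right _ hc), add_zero]
    exact isUnit_one
  obtain ⟨w, hw, hw1⟩ := HenselianRing.is_henselian P hP 1 h1 h2
  have hwu : IsUnit w := by
    haveI := isLocalHom_of_le_jacobson_bot J (HenselianRing.jac)
    refine IsUnit.of_map (Ideal.Quotient.mk J) w ?_
    rw [show Ideal.Quotient.mk J w = 1 from by
      rw [← map_one (Ideal.Quotient.mk J), Ideal.Quotient.eq]; exact hw1]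
    exact isUnit_one
  obtain ⟨z, hz⟩ := hwu.exists_right_inv
  refine ⟨-c * z, J.mul_mem_right _ (J.neg_mem hc), (hwu.pow (q.natDegree + 2)).mul_left_cancel ?_⟩
  have h3 := hw.eq_zero
  simp only [P, eval_add, eval_sub, eval_pow, eval_X, eval_mul, eval_C, eval_revPoly q c hz] at h3
  rw [mul_zero]
  linear_combination c * h3 + (-c * w ^ (q.natDegree + 1) + c ^ 2 * w ^ q.natDegree * q.eval (-c * z) * (w * z + 1)) * hz

/-- Newton's lemma. -/
theorem exists_root_near (J : Ideal A) [HenselianRing A J] (f : A[X]) (a : A) {c : A} (hc : c ∈ J)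
    (h : f.eval a = (f.derivative.eval a) ^ 2 * c) :
    ∃ y ∈ J, f.eval (a + f.derivative.eval a * y) = 0 := by
  let g := taylor a f
  let d := f.derivative.eval a
  obtain ⟨y, hyJ, hy⟩ := exists_small_root J (g.divX.divX.comp (C d * X)) hc
  refine ⟨y, hyJ, ?_⟩
  have h0 : f.eval (a + d * y) = g.eval (d * y) := by
    rw [taylor_eval, add_comm]
  have hg : g = g.divX.divX * X ^ 2 + C (g.coeff 1) * X + C (g.coeff 0) := by
    conv_lhs => rw [← divX_mul_X_add g, ← divX_mul_X_add g.divX]
    rw [coeff_divX]
    ring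
  rw [show f.derivative.eval a = d from rfl, h0, hg]
  simp only [eval_add, eval_mul, eval_pow, eval_X, eval_C]
  rw [show g.coeff 1 = d from taylor_coeff_one a f, show g.coeff 0 = f.eval a from taylor_coeff_zero a f, h]
  simp only [eval_comp, eval_mul, eval_C, eval_X] at hy
  linear_combination d ^ 2 * hy

end Groth.L15.FEtFields
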