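import Groth.Agent.L15.FEtFields.Newton
import Groth.Agent.L05.Hensel.Perm
import Mathlib.RingTheory.DiscreteValuationRing.Basic
import Mathlib.RingTheory.Localization.Integral
import Mathlib.FieldTheory.PrimitiveElement
import Mathlib.FieldTheory.SeparableClosure
import Mathlib.FieldTheory.IsAlgClosed.AlgebraicClosure
import Mathlib.FieldTheory.Minpoly.IsIntegrallyClosed
import Mathlib.RingTheory.Nakayama
import Mathlib.RingTheory.Ideal.GoingUp

/-!
Two henselian discrete valuation rings, one dense in the other: the small fraction field is separably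
closed in the large one, separable irreducible polynomials stay irreducible, and finite separable
extensions of the large field come from the small one.
-/

set_option autoImplicit false
universe u

open Polynomial IsLocalRing

namespace Groth.L15.FEtFields

variable {R S : Type u} [CommRing R] [IsDomain R] [IsDiscreteValuationRing R] [HenselianLocalRing R]
  [CommRing S] [IsDomain S] [IsDiscreteValuationRing S] [Algebra R S]

/-- `S` is an unramified dense extension of `R` with uniformiser `ϖ`. -/
structure IsDense (R S : Type u) [CommRing R] [IsDomain R] [IsDiscreteValuationRing R] [CommRing S]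
    [IsDomain S] [IsDiscreteValuationRing S] [Algebra R S] (ϖ : R) : Prop where
  irred : Irreducible ϖ
  irred' : Irreducible (algebraMap R S ϖ)
  approx : ∀ (n : ℕ) (s : S), ∃ r : R, (algebraMap R S ϖ) ^ n ∣ s - algebraMap R S r
  inj : Function.Injective (algebraMap R S)

variable {ϖ : R}

omit [HenselianLocalRing R] in
theorem IsDense.dvd_iff (h : IsDense R S ϖ) (n : ℕ) (r : R) :
    (algebraMap R S ϖ) ^ n ∣ algebraMap R S r ↔ ϖ ^ n ∣ r := by
  refine ⟨fun hd => ?_, fun hd => by simpa using map_dvd (algebraMap R S) hd⟩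
  by_cases hr : r = 0
  · rw [hr]; exact dvd_zero _
  obtain ⟨m, u, rfl⟩ := IsDiscreteValuationRing.eq_unit_mul_pow_irreducible hr h.irred
  rw [map_mul, map_pow, IsUnit.dvd_mul_left (u.isUnit.map _)] at hd
  exact Dvd.dvd.mul_left (pow_dvd_pow _ ((pow_dvd_pow_iff h.irred'.ne_zero h.irred'.not_isUnit).1 hd)) _

omit [HenselianLocalRing R] in
/-- A value congruent to a unit times a power of the uniformiser has the same order. -/
theorem IsDense.eq_pow_mul (h : IsDense R S ϖ) {e : ℕ} {r : R} {u : S} (hu : IsUnit u)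
    (hd : (algebraMap R S ϖ) ^ (e + 1) ∣ algebraMap R S r - u * algebraMap R S ϖ ^ e) :
    ∃ v : Rˣ, r = v * ϖ ^ e := by
  set p := algebraMap R S ϖ with hp
  have h1 : p ^ e ∣ algebraMap R S r := by
    simpa using dvd_add ((pow_dvd_pow p e.le_succ).trans hd) (dvd_mul_left (p ^ e) u)
  obtain ⟨v, rfl⟩ := (h.dvd_iff e r).1 h1
  have hv : IsUnit v := by
    by_contra hv
    have h3 : ϖ ∣ v := by
      rw [← Ideal.mem_span_singleton, ← h.irred.maximalIdeal_eq]
      exact hv
    have h4 : p ^ (e + 1) ∣ algebraMap R S (ϖ ^ e * v) := by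
      refine (h.dvd_iff _ _).2 ?_
      rw [pow_succ]
      exact mul_dvd_mul_left _ h3
    have h2 : p ^ (e + 1) ∣ u * p ^ e := by simpa using dvd_sub h4 hd
    rw [IsUnit.dvd_mul_left hu] at h2
    exact absurd ((pow_dvd_pow_iff h.irred'.ne_zero h.irred'.not_isUnit).1 h2) (by omega)
  exact ⟨hv.unit, mul_comm _ _⟩

/-- A simple root in `S` of a polynomial over `R` lies in `R`. -/
theorem IsDense.root_mem (h : IsDense R S ϖ) (f : R[X]) {α : S} (hα : aeval α f = 0)
    (hα' : aeval α f.derivative ≠ 0) : α ∈ Set.range (algebraMap R S) := by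
  set p := algebraMap R S ϖ with hp
  obtain ⟨e, u, hu⟩ := IsDiscreteValuationRing.eq_unit_mul_pow_irreducible hα' h.irred'
  obtain ⟨a, ha⟩ := h.approx (2 * e + 1) α
  have hev : ∀ g : R[X], p ^ (2 * e + 1) ∣ aeval α g - algebraMap R S (g.eval a) := fun g => by
    rw [← aeval_algebraMap_apply_eq_algebraMap_eval, aeval_def, aeval_def, eval₂_eq_eval_map,
      eval₂_eq_eval_map]
    exact ha.trans (sub_dvd_eval_sub _ _ _)
  have h1 : p ^ (e + 1) ∣ algebraMap R S (f.derivative.eval a) - u * p ^ e := by
    rw [← hu, ← dvd_neg, neg_sub]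
    exact (pow_dvd_pow _ (by omega)).trans (hev _)
  obtain ⟨v, hv⟩ := h.eq_pow_mul u.isUnit h1
  have h2 : ϖ ^ (2 * e + 1) ∣ f.eval a := by
    refine (h.dvd_iff _ _).1 ?_
    have := hev f
    rwa [hα, zero_sub, dvd_neg] at this
  obtain ⟨c, hc⟩ := h2
  obtain ⟨y, hy, hb⟩ := exists_root_near (maximalIdeal R) f a
    (c := ↑(v⁻¹ ^ 2) * c * ϖ) (Ideal.mul_mem_left _ _ h.irred.not_isUnit) (by
      rw [hv, hc, mul_pow, ← pow_mul, mul_comm e 2, pow_succ]
      calc ϖ ^ (2 * e) * ϖ * c = ((v : R) ^ 2 * ↑(v⁻¹ ^ 2)) * (ϖ ^ (2 * e) * ϖ * c) := by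
            rw [← Units.val_pow_eq_pow_val, ← Units.val_mul, ← mul_pow, mul_inv_cancel, one_pow,
              Units.val_one, one_mul]
        _ = _ := by ring)
  set b := a + f.derivative.eval a * y with hbdef
  refine ⟨b, ?_⟩
  have hyϖ : ϖ ∣ y := by rwa [← Ideal.mem_span_singleton, ← h.irred.maximalIdeal_eq]
  have hab : p ^ (e + 1) ∣ α - algebraMap R S b := by
    rw [hbdef, map_add, ← sub_sub]
    refine dvd_sub ((pow_dvd_pow _ (by omega)).trans ha) ?_
    rw [hp, ← map_pow]
    refine map_dvd _ ?_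
    rw [hv, pow_succ]
    exact mul_dvd_mul (dvd_mul_left _ _) hyϖ
  by_contra hne
  have hne' : α - algebraMap R S b ≠ 0 := sub_ne_zero.2 (Ne.symm hne)
  let q := f.map (algebraMap R S)
  obtain ⟨w, hw⟩ := Polynomial.sub_dvd_eval_sub α (algebraMap R S b) q.derivative
  obtain ⟨r, hr⟩ : ∃ r, q.eval α = q.eval (algebraMap R S b) +
      q.derivative.eval (algebraMap R S b) * (α - algebraMap R S b) + r * (α - algebraMap R S b) ^ 2 := by
    obtain ⟨k, hk⟩ := Polynomial.binomExpansion q (algebraMap R S b) (α - algebraMap R S b)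
    exact ⟨k, by rwa [add_sub_cancel] at hk⟩
  have e1 : q.eval α = 0 := by rw [eval_map_algebraMap, hα]
  have e2 : q.eval (algebraMap R S b) = 0 := by rw [eval_map_apply, hb, map_zero]
  have e3 : q.derivative.eval α = u * p ^ e := by
    rw [derivative_map, eval_map_algebraMap, hu]
  rw [e1, e2, zero_add, sq, ← mul_assoc, ← add_mul] at hr
  have h3 : q.derivative.eval (algebraMap R S b) + r * (α - algebraMap R S b) = 0 :=
    (mul_eq_zero.1 hr.symm).resolve_right hne'
  have h4 : p ^ (e + 1) ∣ (u : S) * p ^ e := by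
    have h5 : p ^ (e + 1) ∣ q.derivative.eval α - q.derivative.eval (algebraMap R S b) :=
      hab.trans (sub_dvd_eval_sub _ _ _)
    have h6 : p ^ (e + 1) ∣ q.derivative.eval (algebraMap R S b) := by
      rw [eq_neg_of_add_eq_zero_left h3, dvd_neg]
      exact hab.mul_left r
    simpa [e3] using dvd_add h5 h6
  rw [IsUnit.dvd_mul_left u.isUnit] at h4
  exact absurd ((pow_dvd_pow_iff h.irred'.ne_zero h.irred'.not_isUnit).1 h4) (by omega)

section Fields

variable {K Kh : Type u} [Field K] [Algebra R K] [IsFractionRing R K] [Field Kh] [Algebra S Kh]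
  [IsFractionRing S Kh] [Algebra R Kh] [IsScalarTower R S Kh] [Algebra K Kh] [IsScalarTower R K Kh]

omit [IsFractionRing R K] [IsFractionRing S Kh] in
theorem range_le {x : Kh} {r : R} (hx : x = algebraMap S Kh (algebraMap R S r)) :
    x ∈ Set.range (algebraMap K Kh) := by
  refine ⟨algebraMap R K r, ?_⟩
  rw [hx, ← IsScalarTower.algebraMap_apply R S Kh, ← IsScalarTower.algebraMap_apply R K Kh]

/-- The small field is separably closed in the large one. -/
theorem IsDense.mem_range_of_isSeparable (h : IsDense R S ϖ) {x : Kh} (hx : IsSeparable K x) :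
    x ∈ Set.range (algebraMap K Kh) := by
  obtain ⟨⟨s, ⟨t, ht⟩⟩, hst⟩ := IsLocalization.surj (nonZeroDivisors S) x
  obtain ⟨i, v, hv⟩ := IsDiscreteValuationRing.eq_unit_mul_pow_irreducible
    (nonZeroDivisors.ne_zero ht) h.irred'
  have hπ : algebraMap S Kh (algebraMap R S ϖ) = algebraMap K Kh (algebraMap R K ϖ) := by
    rw [← IsScalarTower.algebraMap_apply R S Kh, ← IsScalarTower.algebraMap_apply R K Kh]
  have hv1 : algebraMap S Kh (v : S) * algebraMap S Kh ↑(v⁻¹) = 1 := by
    rw [← map_mul, Units.mul_inv, map_one]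
  set α : S := ↑(v⁻¹) * s with hαdef
  have hxα : algebraMap S Kh α = x * algebraMap K Kh (algebraMap R K ϖ ^ i) := by
    rw [hαdef, map_mul, ← hst]
    simp only [hv, map_mul, map_pow, hπ]
    linear_combination (x * algebraMap K Kh (algebraMap R K ϖ) ^ i) * hv1
  have hsep : IsSeparable K (algebraMap S Kh α) := by
    rw [hxα]
    exact mem_separableClosure_iff.1 (mul_mem (mem_separableClosure_iff.2 hx)
      ((separableClosure K Kh).algebraMap_mem _))
  let g := minpoly K (algebraMap S Kh α)
  obtain ⟨b, hb, hf⟩ := IsLocalization.integerNormalization_spec (M := nonZeroDivisors R) g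
  set f := IsLocalization.integerNormalization (nonZeroDivisors R) g
  have hfmap : f.map (algebraMap R K) = C (algebraMap R K b) * g := by
    rw [hf, Algebra.smul_def, Polynomial.algebraMap_apply]
  have haev : ∀ q : R[X], algebraMap S Kh (aeval α q) = aeval (algebraMap S Kh α) (q.map (algebraMap R K)) :=
    fun q => by rw [aeval_map_algebraMap, aeval_algebraMap_apply]
  have hinjS : Function.Injective (algebraMap S Kh) := IsFractionRing.injective S Kh
  have hb0 : algebraMap K Kh (algebraMap R K b) ≠ 0 := by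
    rw [Ne, map_eq_zero_iff _ (algebraMap K Kh).injective, map_eq_zero_iff _ (IsFractionRing.injective R K)]
    exact nonZeroDivisors.ne_zero hb
  have hr := h.root_mem f (α := α) (hinjS (by rw [haev, hfmap, map_mul, minpoly.aeval, mul_zero, map_zero]))
    (fun h0 => by
      have h1 := congrArg (algebraMap S Kh) h0
      rw [haev, ← derivative_map, hfmap, derivative_C_mul, map_mul, map_zero, aeval_C, mul_eq_zero] at h1
      exact h1.elim hb0 (hsep.aeval_derivative_ne_zero (minpoly.aeval K _)))
  obtain ⟨r, hr⟩ := hr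
  obtain ⟨y, hy⟩ := range_le (K := K) (x := algebraMap S Kh α) (congrArg _ hr.symm)
  refine ⟨y / algebraMap R K ϖ ^ i, ?_⟩
  rw [map_div₀, hy, hxα, mul_div_cancel_right₀]
  rw [Ne, map_eq_zero_iff _ (algebraMap K Kh).injective]
  exact pow_ne_zero _ (by rw [Ne, map_eq_zero_iff _ (IsFractionRing.injective R K)]; exact h.irred.ne_zero)

/-- Separable irreducible polynomials stay irreducible. -/
theorem IsDense.irreducible_map (h : IsDense R S ϖ) {p : K[X]} (hp : p.Monic) (hirr : Irreducible p)
    (hsep : p.Separable) : Irreducible (p.map (algebraMap K Kh)) := by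
  have hmon : (p.map (algebraMap K Kh)).Monic := hp.map _
  have hne1 : p.map (algebraMap K Kh) ≠ 1 := fun h1 =>
    hirr.ne_one (Polynomial.map_injective _ (algebraMap K Kh).injective (h1.trans (Polynomial.map_one (algebraMap K Kh)).symm))
  rw [irreducible_of_monic hmon hne1]
  intro f g hf hg hfg
  have key : ∃ f₀ : K[X], f₀.map (algebraMap K Kh) = f ∧ f₀.Monic := by
    let Ω := AlgebraicClosure Kh
    have hsp : (f.map (algebraMap Kh Ω)).Splits := IsAlgClosed.splits _
    have hroots : ∀ a ∈ (f.map (algebraMap Kh Ω)).roots, a ∈ (separableClosure K Ω).val.toRingHom.range := by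
      intro a ha
      have h1 : aeval a p = 0 := by
        rw [← aeval_map_algebraMap Kh, ← hfg, map_mul]
        rw [mem_roots', IsRoot.def, eval_map_algebraMap] at ha
        rw [ha.2, zero_mul]
      exact ⟨⟨a, mem_separableClosure_iff.2 (Polynomial.Separable.of_dvd hsep (minpoly.dvd K a h1))⟩, rfl⟩
    have hq := (Polynomial.lifts_iff_coeff_lifts _).1 (hsp.mem_lift_of_roots_mem_range (hf.map _) _ hroots)
    have hcoeff : f ∈ Polynomial.lifts (algebraMap K Kh) := by
      rw [Polynomial.lifts_iff_coeff_lifts]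
      intro k
      obtain ⟨c, hc⟩ := hq k
      have h2 : algebraMap Kh Ω (f.coeff k) ∈ separableClosure K Ω := by
        rw [← coeff_map, ← hc]
        exact c.2
      refine h.mem_range_of_isSeparable ?_
      have h3 := mem_separableClosure_iff.1 h2
      rwa [IsSeparable, minpoly.algebraMap_eq (algebraMap Kh Ω).injective] at h3
    obtain ⟨f₀, hf₀, -, hm⟩ := Polynomial.lifts_and_degree_eq_and_monic hcoeff hf
    exact ⟨f₀, hf₀, hm⟩
  obtain ⟨f₀, rfl, hf₀⟩ := key
  have hdvd : f₀ ∣ p := (map_dvd_map _ (algebraMap K Kh).injective hf₀).1 ⟨g, hfg.symm⟩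
  obtain ⟨c, hc⟩ := hdvd
  rcases hirr.isUnit_or_isUnit hc with hu | hu
  · left
    rw [hf₀.eq_one_of_isUnit hu]
    exact Polynomial.map_one _
  · right
    have hc1 : c = 1 := (hf₀.of_mul_monic_left (hc ▸ hp)).eq_one_of_isUnit hu
    refine mul_left_cancel₀ (hf₀.map (algebraMap K Kh)).ne_zero ?_
    rw [mul_one, hfg, hc, hc1, mul_one]

end Fields

end Groth.L15.FEtFields
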